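import Cfsg.Agent.H157.HK.A
import Cfsg.Agent.Tits.Gate

/-!
# The multiplication of the Hecke algebra with unequal parameters (helper116)

`Lm cs t v`, `Rm cs t v` : left and right multiplication by `∑ v w T_w`. `eJ cs t J` : the idempotent of the parabolic
subgroup `W_J`.

* `Lm_mul`, `Rm_mul`, `Lm_comm_Rm`, `Rm_eq` (`Rm v u = Lm u v`);
* `trace_mul` : the trace of `x ↦ u x v` is `(Lm u (Cas v)) 1`;
* `eJ_idem` : `eJ` is idempotent.
-/

set_option autoImplicit false
set_option linter.unusedSectionVars false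

namespace Cfsg.Agent.H116.HeckeU

open CoxeterSystem Cfsg.Agent.Tits.Exchange Module Cfsg.Agent.H157.HK Cfsg.Agent.Tits.Core
open scoped ComplexConjugate

variable {I W : Type*} {M : CoxeterMatrix I} [Group W] (cs : CoxeterSystem M W) [Fintype W]

/-- Left multiplication by `∑ v w T_w`. -/
noncomputable def Lm (t : Wt cs) : (W → ℂ) →ₗ[ℂ] Module.End ℂ (W → ℂ) where
  toFun v := ∑ w, v w • LL cs t (wd cs w)
  map_add' u v := by
    rw [← Finset.sum_add_distrib]
    exact Finset.sum_congr rfl fun w _ => by rw [Pi.add_apply, add_smul]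
  map_smul' c v := by
    rw [RingHom.id_apply, Finset.smul_sum]
    exact Finset.sum_congr rfl fun w _ => by rw [Pi.smul_apply, smul_eq_mul, mul_smul]

/-- Right multiplication by `∑ v w T_w`. -/
noncomputable def Rm (t : Wt cs) : (W → ℂ) →ₗ[ℂ] Module.End ℂ (W → ℂ) where
  toFun v := ∑ w, v w • RR cs t (wd cs w⁻¹)
  map_add' u v := by
    rw [← Finset.sum_add_distrib]
    exact Finset.sum_congr rfl fun w _ => by rw [Pi.add_apply, add_smul]
  map_smul' c v := by
    rw [RingHom.id_apply, Finset.smul_sum]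
    exact Finset.sum_congr rfl fun w _ => by rw [Pi.smul_apply, smul_eq_mul, mul_smul]

theorem Lm_apply (t : Wt cs) (v : W → ℂ) : Lm cs t v = ∑ w, v w • LL cs t (wd cs w) := rfl

theorem Rm_apply (t : Wt cs) (v : W → ℂ) : Rm cs t v = ∑ w, v w • RR cs t (wd cs w⁻¹) := rfl

theorem Lm_comm_RR (t : Wt cs) (v : W → ℂ) (ω : List I) : Lm cs t v * RR cs t ω = RR cs t ω * Lm cs t v := by
  rw [Lm_apply, Finset.sum_mul, Finset.mul_sum]
  refine Finset.sum_congr rfl fun w _ => ?_
  rw [smul_mul_assoc, mul_smul_comm, commLR]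

theorem Rm_comm_LL (t : Wt cs) (v : W → ℂ) (ω : List I) : Rm cs t v * LL cs t ω = LL cs t ω * Rm cs t v := by
  rw [Rm_apply, Finset.sum_mul, Finset.mul_sum]
  refine Finset.sum_congr rfl fun w _ => ?_
  rw [smul_mul_assoc, mul_smul_comm, commLR]

theorem Lm_comm_Rm (t : Wt cs) (u v : W → ℂ) : Lm cs t u * Rm cs t v = Rm cs t v * Lm cs t u := by
  rw [Rm_apply, Finset.sum_mul, Finset.mul_sum]
  refine Finset.sum_congr rfl fun w _ => ?_
  rw [smul_mul_assoc, mul_smul_comm, Lm_comm_RR]

variable [DecidableEq W]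

theorem sum_e (v : W → ℂ) : ∑ w, v w • e w = v := by
  funext x
  rw [Finset.sum_apply, Finset.sum_eq_single x]
  · rw [Pi.smul_apply, smul_eq_mul, show (e x : W → ℂ) x = 1 from Pi.single_eq_same _ _, mul_one]
  · intro w _ hw
    rw [Pi.smul_apply, show (e w : W → ℂ) x = 0 from Pi.single_eq_of_ne hw.symm _, smul_zero]
  · intro h
    exact absurd (Finset.mem_univ _) h

theorem Lm_e_one (t : Wt cs) (v : W → ℂ) : Lm cs t v (e 1) = v := by
  rw [Lm_apply, LinearMap.sum_apply]
  conv_rhs => rw [← sum_e v]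
  refine Finset.sum_congr rfl fun w _ => ?_
  rw [LinearMap.smul_apply, LL_e_one cs t (wd_reduced cs w), wd_prod]

theorem Rm_e_one (t : Wt cs) (v : W → ℂ) : Rm cs t v (e 1) = v := by
  rw [Rm_apply, LinearMap.sum_apply]
  conv_rhs => rw [← sum_e v]
  refine Finset.sum_congr rfl fun w _ => ?_
  rw [LinearMap.smul_apply, RR_e_one cs t (wd_reduced cs _), wd_prod, inv_inv]

/-- `Rm v u = Lm u v`. -/
theorem Rm_eq (t : Wt cs) (u v : W → ℂ) : Rm cs t v u = Lm cs t u v := by
  conv_lhs => rw [← Lm_e_one cs t u, ← Module.End.mul_apply, ← Lm_comm_Rm, Module.End.mul_apply, Rm_e_one]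

theorem Lm_mul (t : Wt cs) (u v : W → ℂ) : Lm cs t (Lm cs t u v) = Lm cs t u * Lm cs t v := by
  apply ext_left cs (t := t)
  · exact Lm_comm_RR cs t _
  · intro ω
    rw [mul_assoc, Lm_comm_RR, ← mul_assoc, Lm_comm_RR, mul_assoc]
  · rw [Module.End.mul_apply, Lm_e_one, Lm_e_one]

theorem Rm_mul (t : Wt cs) (u v : W → ℂ) : Rm cs t (Lm cs t u v) = Rm cs t v * Rm cs t u := by
  apply ext_right cs (t := t)
  · exact Rm_comm_LL cs t _
  · intro ω
    rw [mul_assoc, Rm_comm_LL, ← mul_assoc, Rm_comm_LL, mul_assoc]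
  · rw [Module.End.mul_apply, Rm_e_one, Rm_e_one, Rm_eq]

theorem Lm_one (t : Wt cs) : Lm cs t (e 1) = 1 := by
  apply ext_left cs (t := t)
  · exact Lm_comm_RR cs t _
  · intro ω
    rw [one_mul, mul_one]
  · rw [Lm_e_one, Module.End.one_apply]

theorem Rm_one (t : Wt cs) : Rm cs t (e 1) = 1 := by
  apply ext_right cs (t := t)
  · exact Rm_comm_LL cs t _
  · intro ω
    rw [one_mul, mul_one]
  · rw [Rm_e_one, Module.End.one_apply]

theorem LL_eq (t : Wt cs) {ω : List I} (h : cs.IsReduced ω) : LL cs t ω = Lm cs t (e (cs.wordProd ω)) := by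
  apply ext_left cs (t := t)
  · exact fun ω' => commLR cs t _ _
  · exact Lm_comm_RR cs t _
  · rw [LL_e_one cs t h, Lm_e_one]

theorem RR_eq (t : Wt cs) {ω : List I} (h : cs.IsReduced ω) : RR cs t ω = Rm cs t (e (cs.wordProd ω)⁻¹) := by
  apply ext_right cs (t := t)
  · exact fun ω' => (commLR cs t _ _).symm
  · exact Rm_comm_LL cs t _
  · rw [RR_e_one cs t h, Rm_e_one]

theorem LL_wd (t : Wt cs) (w : W) : LL cs t (wd cs w) = Lm cs t (e w) := by
  rw [LL_eq cs t (wd_reduced cs w), wd_prod]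

theorem RR_wd (t : Wt cs) (w : W) : RR cs t (wd cs w) = Rm cs t (e w⁻¹) := by
  rw [RR_eq cs t (wd_reduced cs w), wd_prod]

theorem isReduced_singleton (i : I) : cs.IsReduced [i] := by
  show cs.length (cs.wordProd [i]) = [i].length
  rw [wordProd_singleton, cs.length_simple, List.length_singleton]

theorem L_eq (t : Wt cs) (i : I) : L cs t i = Lm cs t (e (cs.simple i)) := by
  have h : cs.IsReduced [i] := isReduced_singleton cs i
  have h1 := LL_eq cs t h
  rwa [LL_cons, LL_nil, mul_one, wordProd_singleton] at h1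

theorem R_eq (t : Wt cs) (i : I) : R cs t i = Rm cs t (e (cs.simple i)) := by
  have h : cs.IsReduced [i] := isReduced_singleton cs i
  have h1 := RR_eq cs t h
  rwa [RR_cons, RR_nil, mul_one, wordProd_singleton, cs.inv_simple] at h1

theorem Cas_apply (t : Wt cs) (v : W → ℂ) :
    Cas cs t v = ∑ w, (t.f w : ℂ)⁻¹ • Lm cs t (e w) (Rm cs t (e w⁻¹) v) := by
  unfold Cas
  rw [LinearMap.sum_apply]
  refine Finset.sum_congr rfl fun w _ => ?_
  unfold A
  rw [LinearMap.smul_apply, Module.End.mul_apply, LL_wd, RR_wd]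

/-- A central element commutes with everything. -/
theorem Lm_eq_Rm {t : Wt cs} {z : W → ℂ} (hz : z ∈ Z cs t) (v : W → ℂ) : Lm cs t v z = Rm cs t v z := by
  rw [Lm_apply, Rm_apply, LinearMap.sum_apply, LinearMap.sum_apply]
  refine Finset.sum_congr rfl fun w _ => ?_
  rw [LinearMap.smul_apply, LinearMap.smul_apply]
  congr 1
  have h1 := RR_of_mem_Z cs hz (wd cs w).reverse
  rw [List.reverse_reverse] at h1
  rw [← h1]
  congr 1
  have h2 : cs.IsReduced (wd cs w).reverse := (cs.isReduced_reverse_iff _).2 (wd_reduced cs w)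
  rw [RR_eq cs t h2, RR_eq cs t (wd_reduced cs _), wordProd_reverse, wd_prod, wd_prod]

theorem Lm_central {t : Wt cs} {z : W → ℂ} (hz : z ∈ Z cs t) : Lm cs t z = Rm cs t z := by
  apply LinearMap.ext
  intro v
  rw [Rm_eq, Lm_eq_Rm cs hz v, Rm_eq]

theorem mem_Z_iff {t : Wt cs} {z : W → ℂ} : z ∈ Z cs t ↔ ∀ v, Lm cs t v z = Lm cs t z v := by
  constructor
  · intro h v
    rw [Lm_eq_Rm cs h v, Rm_eq]
  · intro h
    rw [mem_Z]
    intro i
    rw [L_eq, R_eq, h, Rm_eq]

/-- `Cas` is linear over the centre. -/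
theorem Cas_Lm {t : Wt cs} {z : W → ℂ} (hz : z ∈ Z cs t) (v : W → ℂ) :
    Cas cs t (Lm cs t z v) = Lm cs t z (Cas cs t v) := by
  rw [Cas_apply, Cas_apply, map_sum]
  refine Finset.sum_congr rfl fun w _ => ?_
  rw [map_smul]
  congr 1
  rw [← Module.End.mul_apply (Rm cs t _), ← Lm_comm_Rm, Module.End.mul_apply, ← Module.End.mul_apply,
    ← Module.End.mul_apply (Lm cs t z), ← Lm_mul, ← Lm_mul, mem_Z_iff cs |>.1 hz]

/-! ### The form -/

/-- `R i` is self-adjoint. -/
theorem ip_R (t : Wt cs) (i : I) (u v : W → ℂ) : ip cs t (R cs t i u) v = ip cs t u (R cs t i v) := by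
  rw [← sub_eq_zero]
  unfold ip
  rw [← Finset.sum_sub_distrib]
  refine Finset.sum_involution (fun w _ => w * cs.simple i) ?_ ?_ ?_ ?_
  · intro w _
    have h1 : w * cs.simple i * cs.simple i = w := by simp
    have hf : ∀ x : W, cs.length x < cs.length (x * cs.simple i) → t.f (x * cs.simple i) = t.p i * t.f x := by
      intro x hx
      unfold Wt.f Wt.p
      rw [t.m_mul hx, add_comm, Real.exp_add]
    rw [H157.HK.R_apply, H157.HK.R_apply, H157.HK.R_apply, H157.HK.R_apply, h1]
    rcases lenR cs i w with h | h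
    · rw [if_neg (by omega), if_neg (by omega), if_pos (by omega), if_pos (by omega), hf w (by omega)]
      push_cast
      simp only [map_add, map_mul, map_sub, map_one, Complex.conj_ofReal]
      ring
    · have h2 : t.f w = t.p i * t.f (w * cs.simple i) := by
        conv_lhs => rw [← h1]
        rw [hf _ (by rw [h1]; omega)]
      rw [if_pos (by omega), if_pos (by omega), if_neg (by omega), if_neg (by omega), h2]
      push_cast
      simp only [map_add, map_mul, map_sub, map_one, Complex.conj_ofReal]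
      ring
  · intro w _ _ hw
    rcases lenR cs i w with h | h <;> rw [hw] at h <;> omega
  · intro w _
    exact Finset.mem_univ _
  · intro w _
    simp

theorem ip_RR (t : Wt cs) (ω : List I) (u v : W → ℂ) : ip cs t (RR cs t ω u) v = ip cs t u (RR cs t ω.reverse v) := by
  induction ω generalizing v with
  | nil => rw [RR_nil, List.reverse_nil, RR_nil]; rfl
  | cons i ω ih =>
    rw [RR_cons, Module.End.mul_apply, ip_R, ih, List.reverse_cons]
    congr 1
    unfold RR
    rw [List.map_append, List.prod_append, List.map_singleton, List.prod_singleton, Module.End.mul_apply]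

theorem ip_e (t : Wt cs) (u : W → ℂ) (w : W) : ip cs t u (e w) = t.f w * u w := by
  unfold ip
  rw [Finset.sum_eq_single w]
  · rw [show (e w : W → ℂ) w = 1 from Pi.single_eq_same _ _, map_one, mul_one]
  · intro x _ hx
    rw [show (e w : W → ℂ) x = 0 from Pi.single_eq_of_ne hx _, map_zero, mul_zero, mul_zero]
  · intro h
    exact absurd (Finset.mem_univ _) h

/-- `τ(x T_{w⁻¹}) = f(w) x(w)`. -/
theorem RR_apply_one (t : Wt cs) (x : W → ℂ) (w : W) : RR cs t (wd cs w) x 1 = t.f w * x w := by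
  have h1 := ip_RR cs t (wd cs w) x (e 1)
  have h2 : cs.IsReduced (wd cs w).reverse := (cs.isReduced_reverse_iff _).2 (wd_reduced cs w)
  rw [RR_e_one cs t h2, wordProd_reverse, wd_prod, inv_inv, ip_e, ip_e, t.f_one] at h1
  rw [← h1]
  push_cast
  ring

/-- The trace of `x ↦ u x v`. -/
theorem trace_mul (t : Wt cs) (u v : W → ℂ) :
    LinearMap.trace ℂ (W → ℂ) (Lm cs t u * Rm cs t v) = Lm cs t u (Cas cs t v) 1 := by
  rw [LinearMap.trace_eq_matrix_trace ℂ (Pi.basisFun ℂ W), Matrix.trace]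
  unfold Cas
  rw [LinearMap.sum_apply, map_sum, Finset.sum_apply]
  refine Finset.sum_congr rfl fun w _ => ?_
  rw [Matrix.diag_apply, LinearMap.toMatrix_apply, Pi.basisFun_apply, Pi.basisFun_repr, LinearMap.smul_apply, map_smul,
    Pi.smul_apply, smul_eq_mul]
  have h0 : (t.f w : ℂ) ≠ 0 := by exact_mod_cast (t.f_pos w).ne'
  have h1 := RR_apply_one cs t ((Lm cs t u * Rm cs t v) (e w)) w
  have h2 : RR cs t (wd cs w) ((Lm cs t u * Rm cs t v) (e w)) = Lm cs t u (A cs t w v) := by
    have h3 : (e w : W → ℂ) = LL cs t (wd cs w) (e 1) := by rw [LL_e_one cs t (wd_reduced cs w), wd_prod]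
    rw [h3, ← Module.End.mul_apply, ← mul_assoc, ← Lm_comm_RR, Module.End.mul_apply, Module.End.mul_apply,
      ← Module.End.mul_apply (Rm cs t v), Rm_comm_LL, Module.End.mul_apply, Rm_e_one]
    unfold A
    rw [commLR, Module.End.mul_apply]
  rw [h2] at h1
  show ((Lm cs t u * Rm cs t v) (e w)) w = _
  rw [h1, ← mul_assoc, inv_mul_cancel₀ h0, one_mul]

end Cfsg.Agent.H116.HeckeU
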