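import Cfsg.Agent.H116.HeckeU.Grp

/-!
# The Casimir operator of a strongly transitive group on a finite building with arbitrary parameters (helper116)

* `casimir'` : `Ph (Tr (ad v)) = (|G| / |C|) • ad (Cas v)`;
* `map_eq` : `(Cl G).map Ph = (Z cs t).map ad`.
-/

set_option autoImplicit false
set_option linter.unusedSectionVars false

namespace Cfsg.Agent.H116.HeckeU

open CoxeterSystem Cfsg Cfsg.Agent.Tits.Exchange Module Cfsg.Agent.H157.HK Cfsg.Agent.Tits.Core Matrix
open Cfsg.Agent.H116.HeckeC (ad ad_apply ad_transpose ad_injective Pm Pm_apply Pm_mul_apply mul_Pm_apply Pm_mul Pm_one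
  Pm_conjTranspose trace_Pm Pm_comm_iff Ph Ph_apply Tr Tr_apply Ph_comm Tr_classFun trace_Ph_mul)
open Cfsg.Agent.H116.HeckeD (Cl mem_Cl perm adL Pm_ad exists_ad cnt cnt_eq cnt_zero cnt_pos)
open scoped ComplexConjugate

variable {I W : Type*} {M : CoxeterMatrix I} [Group W] {cs : CoxeterSystem M W} {C : Type*} (Δ : Bldg cs C)
  [Fintype C] [DecidableEq C] {G : Type*} [Group G] [Fintype G] [MulAction G C]
  (hiso : ∀ (g : G) (x y : C), Δ.δ (g • x) (g • y) = Δ.δ x y)
  (htr : ∀ x y x' y' : C, Δ.δ x y = Δ.δ x' y' → ∃ g : G, g • x = x' ∧ g • y = y')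
  [DecidableEq W] [Fintype W] {t : Wt cs} (ht : IsWt Δ t)

include hiso htr in
omit [Fintype C] [DecidableEq C] [Fintype G] [DecidableEq W] [Fintype W] in
theorem card_indep (x x' : C) (w : W) : Nat.card {y // Δ.δ x y = w} = Nat.card {y // Δ.δ x' y = w} := by
  obtain ⟨g, hg, -⟩ := htr x x x' x' (by rw [(Δ.eq_one x x).2 rfl, (Δ.eq_one x' x').2 rfl])
  refine Nat.card_congr (Equiv.subtypeEquiv (MulAction.toPerm g) fun y => ?_)
  rw [MulAction.toPerm_apply, ← hg, hiso]

include hiso htr ht in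
/-- The number of the elements fixing two chambers. -/
theorem cnt_mul (x y : C) {w : W} (hw : Δ.δ x y = w) :
    (cnt G x y x y : ℂ) * ((Nat.card C : ℂ) * t.f w) = Nat.card G := by
  have h1 : ∀ x' y' : C, (cnt G x y x' y' : ℂ) = if Δ.δ x' y' = w then (cnt G x y x y : ℂ) else 0 := by
    intro x' y'
    by_cases h : Δ.δ x' y' = w
    · rw [if_pos h]
      exact_mod_cast cnt_eq Δ htr (x := x) (u := y) (y := x') (u' := y') (x₁ := x) (u₁ := y) (y₁ := x) (u₁' := y)
        (by rw [hw, h]) rfl (by rw [hw, h])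
    · rw [if_neg h, cnt_zero Δ hiso (by rw [hw]; exact fun h' => h h'.symm), Nat.cast_zero]
  have h2 : ∑ x', ∑ y', (cnt G x y x' y' : ℂ) = Nat.card G := by
    have h3 : ∀ x' y' : C, (cnt G x y x' y' : ℂ) = ∑ g : G, if g • x = x' ∧ g • y = y' then 1 else 0 := by
      intro x' y'
      rw [Finset.sum_boole]
      unfold cnt
      rw [Nat.card_eq_fintype_card, Fintype.card_subtype]
    simp only [h3]
    rw [Finset.sum_congr rfl fun x' _ => Finset.sum_comm, Finset.sum_comm]
    have h4 : ∀ g : G, ∑ x', ∑ y', (if g • x = x' ∧ g • y = y' then (1 : ℂ) else 0) = 1 := by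
      intro g
      rw [Finset.sum_eq_single (g • x), Finset.sum_eq_single (g • y)]
      · rw [if_pos ⟨rfl, rfl⟩]
      · intro b _ hb
        rw [if_neg fun h => hb h.2.symm]
      · intro h
        exact absurd (Finset.mem_univ _) h
      · intro a _ ha
        exact Finset.sum_eq_zero fun b _ => if_neg fun h => ha h.1.symm
      · intro h
        exact absurd (Finset.mem_univ _) h
    rw [Finset.sum_congr rfl fun g _ => h4 g, Finset.sum_const, Finset.card_univ, nsmul_eq_mul, mul_one,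
      Nat.card_eq_fintype_card]
  rw [← h2, Finset.sum_congr rfl fun x' _ => Finset.sum_congr rfl fun y' _ => h1 x' y']
  have h5 : ∀ x' : C, ∑ y', (if Δ.δ x' y' = w then (cnt G x y x y : ℂ) else 0) = cnt G x y x y * t.f w := by
    intro x'
    rw [← row_eq Δ ht x' w, ← row Δ x' w, Finset.mul_sum]
    refine Finset.sum_congr rfl fun y' _ => ?_
    rw [ad_e, mul_ite, mul_one, mul_zero]
  rw [Finset.sum_congr rfl fun x' _ => h5 x', Finset.sum_const, Finset.card_univ, nsmul_eq_mul,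
    Nat.card_eq_fintype_card]
  ring

include hiso htr ht in
theorem casimir_mat [Nonempty C] (X : Matrix C C ℂ) :
    Ph C (Tr (G := G) C X) =
      ((Nat.card G : ℂ) / Nat.card C) • ∑ w, (t.f w : ℂ)⁻¹ • (ad Δ (e w) * X * (ad Δ (e w))ᵀ) := by
  obtain ⟨x₀⟩ := ‹Nonempty C›
  have hC0 : (Nat.card C : ℂ) ≠ 0 := by
    have : Nonempty C := ⟨x₀⟩
    exact_mod_cast Nat.card_pos.ne'
  have hcnt : ∀ x u y u' : C, ((cnt G x u y u' : ℕ) : ℂ) =
      if Δ.δ x u = Δ.δ y u' then (Nat.card G : ℂ) / Nat.card C * (t.f (Δ.δ x u) : ℂ)⁻¹ else 0 := by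
    intro x u y u'
    by_cases h : Δ.δ x u = Δ.δ y u'
    · have h1 := cnt_mul Δ hiso htr ht (G := G) x u rfl
      have h2 : cnt G x u y u' = cnt G x u x u :=
        cnt_eq Δ htr (x := x) (u := u) (y := y) (u' := u') (x₁ := x) (u₁ := u) (y₁ := x) (u₁' := u) h rfl h
      have h3 : (t.f (Δ.δ x u) : ℂ) ≠ 0 := by exact_mod_cast (t.f_pos _).ne'
      rw [if_pos h, h2, ← h1]
      field_simp
    · rw [if_neg h, cnt_zero Δ hiso h, Nat.cast_zero]
  ext x y
  -- left hand side
  have hL : Ph C (Tr (G := G) C X) x y = ∑ u, ∑ u', ((cnt G x u y u' : ℕ) : ℂ) * X u u' := by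
    rw [Ph_apply, Matrix.sum_apply]
    have h1 : ∀ g : G, (Tr C X g • Pm C g⁻¹) x y = ∑ u, ∑ u', if g • x = y ∧ g • u = u' then X u u' else 0 := by
      intro g
      rw [Matrix.smul_apply, smul_eq_mul, Tr_apply, trace, Finset.sum_mul]
      refine Finset.sum_congr rfl fun u _ => ?_
      rw [diag_apply, mul_Pm_apply, Pm_apply]
      have h2 : x = g⁻¹ • y ↔ g • x = y := by rw [eq_inv_smul_iff]
      by_cases h3 : g • x = y
      · rw [if_pos (h2.2 h3), mul_one, Finset.sum_eq_single (g • u)]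
        · rw [if_pos ⟨h3, rfl⟩]
        · intro u' _ hu'
          rw [if_neg fun h => hu' h.2.symm]
        · intro h
          exact absurd (Finset.mem_univ _) h
      · rw [if_neg fun h => h3 (h2.1 h), mul_zero]
        symm
        exact Finset.sum_eq_zero fun u' _ => if_neg fun h' => h3 h'.1
    rw [Finset.sum_congr rfl fun g _ => h1 g, Finset.sum_comm]
    refine Finset.sum_congr rfl fun u _ => ?_
    rw [Finset.sum_comm]
    refine Finset.sum_congr rfl fun u' _ => ?_
    rw [← Finset.sum_filter, Finset.sum_const, nsmul_eq_mul]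
    congr 2
    unfold cnt
    rw [Nat.card_eq_fintype_card, Fintype.card_subtype]
  -- right hand side
  have hR : ∀ w, (ad Δ (e w) * X * (ad Δ (e w))ᵀ) x y =
      ∑ u, ∑ u', (if Δ.δ x u = w ∧ Δ.δ y u' = w then X u u' else 0) := by
    intro w
    rw [mul_apply, Finset.sum_comm]
    refine Finset.sum_congr rfl fun u' _ => ?_
    rw [mul_apply, transpose_apply, ad_apply, e_apply, Finset.sum_mul]
    refine Finset.sum_congr rfl fun u _ => ?_
    rw [ad_apply, e_apply]
    by_cases h1 : Δ.δ x u = w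
    · by_cases h2 : Δ.δ y u' = w
      · rw [if_pos h1, if_pos h2, if_pos ⟨h1, h2⟩, one_mul, mul_one]
      · rw [if_neg h2, mul_zero, if_neg (c := Δ.δ x u = w ∧ Δ.δ y u' = w) fun h => h2 h.2]
    · rw [if_neg h1, zero_mul, zero_mul, if_neg (c := Δ.δ x u = w ∧ Δ.δ y u' = w) fun h => h1 h.1]
  rw [hL, Matrix.smul_apply, Matrix.sum_apply]
  simp only [Matrix.smul_apply, smul_eq_mul, hR, Finset.mul_sum]
  rw [Finset.sum_comm' (s := (Finset.univ : Finset W)) (t := fun _ => (Finset.univ : Finset C))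
    (t' := (Finset.univ : Finset C)) (s' := fun _ => (Finset.univ : Finset W)) (by simp)]
  refine Finset.sum_congr rfl fun u _ => ?_
  rw [Finset.sum_comm' (s := (Finset.univ : Finset W)) (t := fun _ => (Finset.univ : Finset C))
    (t' := (Finset.univ : Finset C)) (s' := fun _ => (Finset.univ : Finset W)) (by simp)]
  refine Finset.sum_congr rfl fun u' _ => ?_
  rw [hcnt, Finset.sum_eq_single (Δ.δ x u)]
  · by_cases h : Δ.δ x u = Δ.δ y u'
    · rw [if_pos h, if_pos ⟨rfl, h.symm⟩]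
      ring
    · rw [if_neg h, if_neg fun h' => h h'.2.symm, zero_mul, mul_zero, mul_zero]
  · intro w _ hw
    rw [if_neg fun h => hw h.1.symm, mul_zero, mul_zero]
  · intro h
    exact absurd (Finset.mem_univ _) h

theorem ad_e_transpose (w : W) : (ad Δ (e w))ᵀ = ad Δ (e w⁻¹) := by
  rw [ad_transpose]
  congr 1
  funext x
  rw [e_apply, e_apply]
  congr 1
  rw [inv_eq_iff_eq_inv]

include hiso htr ht in
/-- **The Casimir operator.** -/
theorem casimir' [Nonempty C] (v : W → ℂ) :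
    Ph C (Tr (G := G) C (ad Δ v)) = ((Nat.card G : ℂ) / Nat.card C) • ad Δ (Cas cs t v) := by
  rw [casimir_mat Δ hiso htr ht, Cas_apply, ad_sum]
  congr 1
  refine Finset.sum_congr rfl fun w _ => ?_
  rw [ad_smul, ad_Lm Δ ht, Rm_eq, ad_Lm Δ ht, ad_e_transpose, mul_assoc]

include hiso htr ht in
/-- The class functions act on `ℂ^C` as the centre of the Hecke algebra. -/
theorem map_eq [Nonempty C] : (Cl G).map (Ph C) = (Z cs t).map (adL Δ) := by
  have hG0 : (Nat.card G : ℂ) ≠ 0 := by exact_mod_cast Nat.card_pos.ne'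
  have hC0 : (Nat.card C : ℂ) ≠ 0 := by exact_mod_cast Nat.card_pos.ne'
  apply le_antisymm
  · rintro _ ⟨f, hf, rfl⟩
    obtain ⟨v, hv⟩ := exists_ad Δ htr (X := Ph C f) fun g => Ph_comm hf g
    refine ⟨v, ?_, hv.symm⟩
    rw [SetLike.mem_coe, mem_Z_comm Δ ht]
    intro i
    rw [← hv, Ph_apply, Finset.mul_sum, Finset.sum_mul]
    refine Finset.sum_congr rfl fun g _ => ?_
    rw [mul_smul_comm, smul_mul_assoc, Pm_ad Δ hiso]
  · rintro _ ⟨z, hz, rfl⟩
    -- `Cas` is onto the centre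
    have h1 : LinearMap.range (Cas cs t) = Z cs t :=
      Submodule.eq_of_le_of_finrank_eq (range_Cas_le cs t) (finrank_range_Cas cs t)
    have h2 : z ∈ LinearMap.range (Cas cs t) := h1 ▸ hz
    obtain ⟨v, rfl⟩ := h2
    refine ⟨((Nat.card G : ℂ) / Nat.card C)⁻¹ • Tr (G := G) C (ad Δ v), ?_, ?_⟩
    · exact Submodule.smul_mem _ _ fun g h => Tr_classFun (Pm_ad Δ hiso v) g h
    · rw [map_smul, casimir' Δ hiso htr ht, smul_smul, inv_mul_cancel₀ (div_ne_zero hG0 hC0), one_smul]
      rfl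

end Cfsg.Agent.H116.HeckeU
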