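import Cfsg.Agent.H116.HeckeU.Alg
import Cfsg.Agent.H116.HeckeD

/-!
# The adjacency algebra of a finite building with arbitrary parameters (helper116)

`IsWt Δ t` : the numbers of neighbours are the parameters of the weight `t`.

* `exists_wt` : a building with a strongly transitive group has a weight;
* `ad_Lm` : `ad (Lm u v) = ad u * ad v`;
* `casimir'` : `Ph (Tr (ad v)) = (|G| / |C|) • ad (Cas v)`;
* `map_eq` : `(Cl G).map Ph = (Z cs t).map ad`.
-/

set_option autoImplicit false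
set_option linter.unusedSectionVars false

namespace Cfsg.Agent.H116.HeckeU

open CoxeterSystem Cfsg Cfsg.Agent.Tits.Exchange Module Cfsg.Agent.H157.HK Cfsg.Agent.Tits.Core Matrix
open Cfsg.Agent.H116.HeckeC (ad ad_apply ad_transpose ad_injective Pm Pm_apply Pm_mul_apply mul_Pm_apply Pm_mul Pm_one
  Pm_conjTranspose trace_Pm Pm_comm_iff Ph Ph_apply Tr Tr_apply Ph_comm Tr_classFun trace_Ph_mul)
open Cfsg.Agent.H116.HeckeD (Cl mem_Cl perm adL Pm_ad exists_ad cnt cnt_eq cnt_zero cnt_pos)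
open scoped ComplexConjugate

section Bldg

variable {I W : Type*} {M : CoxeterMatrix I} [Group W] {cs : CoxeterSystem M W} {C : Type*} (Δ : Bldg cs C)

/-- The numbers of neighbours are the parameters of the weight. -/
def IsWt (t : Wt cs) : Prop := ∀ x i, (Nat.card {y // Δ.δ x y = cs.simple i} : ℝ) = t.p i

variable [DecidableEq W]

theorem e_apply (w x : W) : (e w : W → ℂ) x = if x = w then 1 else 0 := Pi.single_apply w 1 x

theorem ad_e (w : W) (x y : C) : ad Δ (e w) x y = if Δ.δ x y = w then 1 else 0 := by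
  rw [ad_apply, e_apply]

variable [Fintype C]

theorem row (x : C) (w : W) : ∑ y, ad Δ (e w) x y = (Nat.card {y // Δ.δ x y = w} : ℂ) := by
  classical
  rw [Finset.sum_congr rfl fun y _ => ad_e Δ w x y, Finset.sum_boole, Nat.card_eq_fintype_card,
    Fintype.card_subtype]

variable [DecidableEq C]

theorem ad_one : ad Δ (e 1) = 1 := by
  ext x y
  rw [ad_e, Matrix.one_apply]
  by_cases h : x = y
  · rw [if_pos h, if_pos ((Δ.eq_one x y).2 h)]
  · rw [if_neg h, if_neg fun h' => h ((Δ.eq_one x y).1 h')]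

theorem ad_simple_mul {i : I} {w : W} (h : cs.length w < cs.length (cs.simple i * w)) :
    ad Δ (e (cs.simple i)) * ad Δ (e w) = ad Δ (e (cs.simple i * w)) := by
  ext x y
  rw [mul_apply, ad_e]
  by_cases h1 : Δ.δ x y = cs.simple i * w
  · obtain ⟨z₀, hz, hz'⟩ := Δ.exists_step y x i
    have hz2 : Δ.δ z₀ y = w := by
      rw [Δ.symm y z₀, hz', Δ.symm x y, h1]
      simp [mul_assoc]
    rw [if_pos h1, Finset.sum_eq_single z₀]
    · rw [ad_e, ad_e, if_pos hz, if_pos hz2, one_mul]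
    · intro z _ hne
      rw [ad_e, ad_e]
      by_cases h2 : Δ.δ x z = cs.simple i
      · by_cases h3 : Δ.δ z y = w
        · exfalso
          have h4 : z ∈ Δ.Pan i z₀ := Δ.mem_Pan_trans (Δ.mem_Pan_symm (Δ.mem_Pan_of_δ hz)) (Δ.mem_Pan_of_δ h2)
          have h5 : Δ.δ z₀ z = cs.simple i := h4.resolve_left hne
          have h6 := Δ.step_lt_left (z := y) h5 (by rw [h3]; exact h)
          rw [hz2, h3] at h6
          rw [← h6] at h
          exact lt_irrefl _ h
        · rw [if_neg h3, mul_zero]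
      · rw [if_neg h2, zero_mul]
    · intro h'
      exact absurd (Finset.mem_univ _) h'
  · rw [if_neg h1]
    refine Finset.sum_eq_zero fun z _ => ?_
    rw [ad_e, ad_e]
    by_cases h2 : Δ.δ x z = cs.simple i
    · by_cases h3 : Δ.δ z y = w
      · exfalso
        have h6 := Δ.step_lt_left (z := y) h2 (by rw [h3]; exact h)
        exact h1 (by rw [h6, h3])
      · rw [if_neg h3, mul_zero]
    · rw [if_neg h2, zero_mul]

/-- A building whose numbers `|{y | δ x y = w}|` do not depend on `x` has a weight. -/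
theorem exists_wt_of [Nonempty C] (h : ∀ (x x' : C) (w : W), Nat.card {y // Δ.δ x y = w} = Nat.card {y // Δ.δ x' y = w}) :
    ∃ t : Wt cs, IsWt Δ t := by
  obtain ⟨x₀⟩ := ‹Nonempty C›
  have hmul : ∀ (i : I) (w : W), cs.length w < cs.length (cs.simple i * w) →
      (Nat.card {y // Δ.δ x₀ y = cs.simple i * w} : ℂ) =
        Nat.card {y // Δ.δ x₀ y = cs.simple i} * Nat.card {y // Δ.δ x₀ y = w} := by
    intro i w hl
    rw [← row, ← ad_simple_mul Δ hl]
    simp only [mul_apply]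
    rw [Finset.sum_comm]
    have h1 : ∀ z : C, ∑ y, ad Δ (e (cs.simple i)) x₀ z * ad Δ (e w) z y =
        ad Δ (e (cs.simple i)) x₀ z * Nat.card {y // Δ.δ x₀ y = w} := by
      intro z
      rw [← Finset.mul_sum, row, h z x₀]
    rw [Finset.sum_congr rfl fun z _ => h1 z, ← Finset.sum_mul, row]
  have hpos : ∀ w, 0 < Nat.card {y // Δ.δ x₀ y = w} := by
    intro w
    obtain ⟨y, hy⟩ := Δ.exists_δ x₀ w
    have : Nonempty {y // Δ.δ x₀ y = w} := ⟨⟨y, hy⟩⟩
    exact Nat.card_pos
  refine ⟨⟨fun w => Real.log (Nat.card {y // Δ.δ x₀ y = w}), ?_, ?_⟩, ?_⟩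
  · have h1 : Nat.card {y // Δ.δ x₀ y = 1} = 1 := by
      rw [Nat.card_eq_one_iff_unique]
      refine ⟨⟨fun a b => Subtype.ext ?_⟩, ⟨⟨x₀, (Δ.eq_one x₀ x₀).2 rfl⟩⟩⟩
      rw [← (Δ.eq_one x₀ a.1).1 a.2, ← (Δ.eq_one x₀ b.1).1 b.2]
    rw [h1, Nat.cast_one, Real.log_one]
  · intro i w hl
    have h1 : (Nat.card {y // Δ.δ x₀ y = cs.simple i * w} : ℝ) =
        Nat.card {y // Δ.δ x₀ y = cs.simple i} * Nat.card {y // Δ.δ x₀ y = w} := by
      exact_mod_cast hmul i w hl
    rw [h1, Real.log_mul (by exact_mod_cast (hpos _).ne') (by exact_mod_cast (hpos _).ne')]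
  · intro x i
    unfold Wt.p
    rw [Real.exp_log (by exact_mod_cast hpos _), h x x₀]

variable {t : Wt cs} (ht : IsWt Δ t)

include ht

theorem card_filter (x : C) (i : I) : ((Finset.univ.filter fun y => Δ.δ x y = cs.simple i).card : ℂ) = (t.p i : ℂ) := by
  rw [← ht x i, Nat.card_eq_fintype_card, Fintype.card_subtype]
  push_cast
  rfl

/-- Right multiplication by the matrix of a fundamental reflection. -/
theorem ad_R (v : W → ℂ) (i : I) : ad Δ (R cs t i v) = ad Δ v * ad Δ (e (cs.simple i)) := by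
  symm
  ext x z
  rw [mul_apply, ad_apply, H157.HK.R_apply]
  have h0 : ∀ y, ad Δ v x y * ad Δ (e (cs.simple i)) y z =
      if Δ.δ z y = cs.simple i then v (Δ.δ x y) else 0 := by
    intro y
    rw [ad_apply, ad_e, mul_ite, mul_one, mul_zero]
    have : Δ.δ y z = cs.simple i ↔ Δ.δ z y = cs.simple i :=
      ⟨fun h => Δ.δ_symm_simple h, fun h => Δ.δ_symm_simple h⟩
    by_cases h : Δ.δ y z = cs.simple i
    · rw [if_pos h, if_pos (this.1 h)]
    · rw [if_neg h, if_neg fun h' => h (this.2 h')]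
  rw [Finset.sum_congr rfl fun y _ => h0 y, ← Finset.sum_filter]
  rcases cs.length_mul_simple (Δ.δ x z) i with hl | hl
  · rw [if_neg (by omega)]
    have h1 : ∀ y ∈ Finset.univ.filter (fun y => Δ.δ z y = cs.simple i), v (Δ.δ x y) = v (Δ.δ x z * cs.simple i) := by
      intro y hy
      rw [Δ.step_lt x z y i (Finset.mem_filter.1 hy).2 (by omega)]
    rw [Finset.sum_congr rfl h1, Finset.sum_const, nsmul_eq_mul, card_filter Δ ht]
  · rw [if_pos (by omega)]
    obtain ⟨y₀, hy₀, hy₀'⟩ := Δ.exists_step x z i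
    have hmem : y₀ ∈ Finset.univ.filter (fun y => Δ.δ z y = cs.simple i) :=
      Finset.mem_filter.2 ⟨Finset.mem_univ _, hy₀⟩
    have h1 : ∀ y ∈ (Finset.univ.filter (fun y => Δ.δ z y = cs.simple i)).erase y₀, v (Δ.δ x y) = v (Δ.δ x z) := by
      intro y hy
      obtain ⟨hne, hy⟩ := Finset.mem_erase.1 hy
      have hy1 := (Finset.mem_filter.1 hy).2
      have h2 : y ∈ Δ.Pan i y₀ :=
        Δ.mem_Pan_trans (Δ.mem_Pan_symm (Δ.mem_Pan_of_δ hy₀)) (Δ.mem_Pan_of_δ hy1)
      have h3 : Δ.δ y₀ y = cs.simple i := h2.resolve_left hne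
      have h4 := Δ.step_lt x y₀ y i h3 (by
        rw [hy₀', mul_assoc, cs.simple_mul_simple_self, mul_one]; omega)
      rw [h4, hy₀', mul_assoc, cs.simple_mul_simple_self, mul_one]
    have hpos : 1 ≤ (Finset.univ.filter fun y => Δ.δ z y = cs.simple i).card := Finset.card_pos.2 ⟨y₀, hmem⟩
    rw [← Finset.add_sum_erase _ _ hmem, Finset.sum_congr rfl h1, Finset.sum_const,
      Finset.card_erase_of_mem hmem, hy₀', nsmul_eq_mul, Nat.cast_sub hpos, card_filter Δ ht, Nat.cast_one]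

/-- Left multiplication by the matrix of a fundamental reflection. -/
theorem ad_L (v : W → ℂ) (i : I) : ad Δ (L cs t i v) = ad Δ (e (cs.simple i)) * ad Δ v := by
  symm
  have h1 : (ad Δ (e (cs.simple i)))ᵀ = ad Δ (e (cs.simple i)) := by
    rw [ad_transpose]
    congr 1
    funext w
    rw [e_apply, e_apply]
    congr 1
    rw [inv_eq_iff_eq_inv, cs.inv_simple]
  rw [← transpose_inj, transpose_mul, h1, ad_transpose, ad_transpose, ← ad_R Δ ht]
  congr 1
  funext w
  rw [H157.HK.R_apply, H157.HK.L_apply]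
  have h2 : (w * cs.simple i)⁻¹ = cs.simple i * w⁻¹ := by rw [_root_.mul_inv_rev, cs.inv_simple]
  rw [h2, ← cs.length_inv w, ← cs.length_inv (w * cs.simple i), h2]

theorem ad_LL (v : W → ℂ) (ω : List I) : ad Δ (LL cs t ω v) = ad Δ (LL cs t ω (e 1)) * ad Δ v := by
  induction ω with
  | nil => rw [LL_nil, Module.End.one_apply, Module.End.one_apply, ad_one, one_mul]
  | cons i ω ih =>
    rw [LL_cons, Module.End.mul_apply, Module.End.mul_apply, ad_L Δ ht, ad_L Δ ht, ih, mul_assoc]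

omit ht [DecidableEq W] [DecidableEq C] in
theorem ad_sum {ι : Type*} (s : Finset ι) (f : ι → W → ℂ) : ad Δ (∑ a ∈ s, f a) = ∑ a ∈ s, ad Δ (f a) :=
  map_sum (adL Δ) f s

omit ht [DecidableEq W] [Fintype C] [DecidableEq C] in
theorem ad_smul (c : ℂ) (v : W → ℂ) : ad Δ (c • v) = c • ad Δ v := rfl

variable [Fintype W]

/-- **`ad` is multiplicative.** -/
theorem ad_Lm (u v : W → ℂ) : ad Δ (Lm cs t u v) = ad Δ u * ad Δ v := by
  rw [Lm_apply, LinearMap.sum_apply, ad_sum]
  have h1 : ∀ w, ad Δ ((u w • LL cs t (wd cs w)) v) = u w • ad Δ (e w) * ad Δ v := by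
    intro w
    rw [LinearMap.smul_apply, ad_smul, ad_LL Δ ht, LL_e_one cs t (wd_reduced cs w), wd_prod, smul_mul_assoc]
  rw [Finset.sum_congr rfl fun w _ => h1 w, ← Finset.sum_mul]
  congr 1
  conv_rhs => rw [← sum_e u, ad_sum]
  rfl

theorem mem_Z_comm [Nonempty C] (v : W → ℂ) :
    v ∈ Z cs t ↔ ∀ i, ad Δ (e (cs.simple i)) * ad Δ v = ad Δ v * ad Δ (e (cs.simple i)) := by
  rw [mem_Z]
  refine forall_congr' fun i => ?_
  rw [← ad_L Δ ht, ← ad_R Δ ht]
  exact ⟨fun h => by rw [h], fun h => ad_injective Δ h⟩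

theorem row_eq (x : C) (w : W) : (Nat.card {y // Δ.δ x y = w} : ℂ) = (t.f w : ℂ) := by
  rw [← row]
  obtain ⟨ω, hω, rfl⟩ := cs.exists_isReduced w
  induction ω generalizing x with
  | nil =>
    rw [wordProd_nil, ad_one, t.f_one]
    simp [Matrix.one_apply]
  | cons i ω ih =>
    have hr := reduced_tail cs hω
    have hl : cs.length (cs.wordProd ω) < cs.length (cs.simple i * cs.wordProd ω) := Wt.lt_cons hω
    rw [wordProd_cons, ← ad_simple_mul Δ hl, t.f_mul hl]
    simp only [mul_apply]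
    rw [Finset.sum_comm]
    have h1 : ∀ z : C, ∑ y, ad Δ (e (cs.simple i)) x z * ad Δ (e (cs.wordProd ω)) z y =
        ad Δ (e (cs.simple i)) x z * (t.f (cs.wordProd ω) : ℂ) := by
      intro z
      rw [← Finset.mul_sum, ih z hr]
    rw [Finset.sum_congr rfl fun z _ => h1 z, ← Finset.sum_mul, row, Complex.ofReal_mul, ← ht x i]
    push_cast
    rfl

end Bldg

end Cfsg.Agent.H116.HeckeU
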