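import Cfsg.Agent.H116.HeckeU.Rank
import Cfsg.Agent.H157.HK.E

/-!
# Transfer between a strongly transitive group and its Weyl group (helper116)

* `classInner_eJ` : `⟨Tr (ad (eJ J)), χ⟩ = conj ⟨χ, 1_P^G⟩`, `P` the stabilizer of a `J`-residue;
* `gram_const` : `tr (x ↦ e_K x e_J)` does not depend on the weight;
* `thin` : the thin building of a Coxeter group.
-/

set_option autoImplicit false
set_option linter.unusedSectionVars false

namespace Cfsg.Agent.H116.HeckeU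

open CoxeterSystem Cfsg Cfsg.Agent.Tits.Exchange Module Cfsg.Agent.Tits.Core Matrix
  Cfsg.Agent.Characters.Core
open Cfsg.Agent.H157.HK (Wt L R LL RR Cas A Z e wd eJ pJ iJ continuous_Lm continuous_CasC continuous_eJ continuous_Cas'
  smul_one smul_zero_m)
open Cfsg.Agent.H116.HeckeC (ad ad_apply ad_transpose ad_injective Pm Pm_apply Pm_mul_apply mul_Pm_apply Pm_mul Pm_one
  Pm_conjTranspose trace_Pm Pm_comm_iff Ph Ph_apply Tr Tr_apply Ph_comm Tr_classFun trace_Ph_mul)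
open Cfsg.Agent.H116.HeckeD (Cl mem_Cl perm adL Pm_ad exists_ad cnt cnt_eq cnt_zero cnt_pos)
open scoped ComplexConjugate

universe u

section Res

variable {I W : Type*} {M : CoxeterMatrix I} [Group W] {cs : CoxeterSystem M W} {C : Type*} (Δ : Bldg cs C)
  [Fintype C] [DecidableEq C] {G : Type u} [Group G] [Fintype G] [MulAction G C]
  (hiso : ∀ (g : G) (x y : C), Δ.δ (g • x) (g • y) = Δ.δ x y)
  (htr : ∀ x y x' y' : C, Δ.δ x y = Δ.δ x' y' → ∃ g : G, g • x = x' ∧ g • y = y')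
  [DecidableEq W] [Fintype W] {t : Wt cs} (ht : IsWt Δ t)

omit [DecidableEq C] in
include ht in
theorem sum_ad (v : W → ℂ) (x : C) : ∑ y, v (Δ.δ x y) = ∑ w, v w * (t.f w : ℂ) := by
  classical
  have h1 : ∀ y, v (Δ.δ x y) = ∑ w, v w * ad Δ (e w) x y := by
    intro y
    rw [Finset.sum_eq_single (Δ.δ x y)]
    · rw [ad_e, if_pos rfl, mul_one]
    · intro w _ hw
      rw [ad_e, if_neg hw.symm, mul_zero]
    · intro h
      exact absurd (Finset.mem_univ _) h
  rw [Finset.sum_congr rfl fun y _ => h1 y, Finset.sum_comm]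
  refine Finset.sum_congr rfl fun w _ => ?_
  rw [← Finset.mul_sum, row, row_eq Δ ht]

omit [DecidableEq W] in
theorem sum_eJ (t : Wt cs) (J : Set I) : ∑ w, eJ cs t J w * (t.f w : ℂ) = 1 := by
  classical
  have h1 : ∀ w, eJ cs t J w * (t.f w : ℂ) = ((pJ cs t J : ℝ) : ℂ)⁻¹ * ((if w ∈ WJ cs J then t.f w else 0 : ℝ) : ℂ) := by
    intro w
    unfold eJ
    split_ifs <;> simp
  rw [Finset.sum_congr rfl fun w _ => h1 w, ← Finset.mul_sum, ← Complex.ofReal_sum]
  exact inv_mul_cancel₀ (H157.HK.pJ_ne cs t J)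

include hiso in
/-- The inner product with a class function. -/
theorem sum_Tr_eJ (x₀ : C) (htr1 : ∀ x : C, ∃ g : G, g • x₀ = x) (J : Set I) {f : G → ℂ} (hf : f ∈ Cl G)
    [DecidablePred fun g : G => Δ.δ x₀ (g • x₀) ∈ WJ cs J] :
    ∑ g, Tr (G := G) C (ad Δ (eJ cs t J)) g * f g =
      (Nat.card C : ℂ) * ((pJ cs t J : ℝ) : ℂ)⁻¹ * ∑ g, if Δ.δ x₀ (g • x₀) ∈ WJ cs J then f g else 0 := by
  classical
  have h1 : ∀ g : G, Tr (G := G) C (ad Δ (eJ cs t J)) g = ∑ x, eJ cs t J (Δ.δ x (g • x)) := by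
    intro g
    rw [Tr_apply, trace]
    refine Finset.sum_congr rfl fun x _ => ?_
    rw [diag_apply, mul_Pm_apply, ad_apply]
  have h2 : ∀ x : C, ∑ g : G, eJ cs t J (Δ.δ x (g • x)) * f g =
      ((pJ cs t J : ℝ) : ℂ)⁻¹ * ∑ g : G, if Δ.δ x₀ (g • x₀) ∈ WJ cs J then f g else 0 := by
    intro x
    obtain ⟨a, rfl⟩ := htr1 x
    rw [Finset.mul_sum]
    refine Fintype.sum_equiv (MulAut.conj a⁻¹).toEquiv _ _ fun g => ?_
    show _ = ((pJ cs t J : ℝ) : ℂ)⁻¹ * (if Δ.δ x₀ ((a⁻¹ * g * a⁻¹⁻¹) • x₀) ∈ WJ cs J then f (a⁻¹ * g * a⁻¹⁻¹) else 0)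
    have h3 : Δ.δ x₀ ((a⁻¹ * g * a⁻¹⁻¹) • x₀) = Δ.δ (a • x₀) (g • a • x₀) := by
      rw [← hiso a x₀, smul_smul, smul_smul]
      congr 2
      group
    have h4 : Δ.δ x₀ ((a⁻¹ * g * a⁻¹⁻¹) • x₀) ∈ WJ cs J ↔ Δ.δ (a • x₀) (g • a • x₀) ∈ WJ cs J := by rw [h3]
    unfold eJ
    by_cases h : Δ.δ (a • x₀) (g • a • x₀) ∈ WJ cs J
    · rw [if_pos h, if_pos (h4.2 h), hf g a⁻¹]
    · rw [if_neg h, if_neg fun h' => h (h4.1 h'), zero_mul, mul_zero]
  simp only [h1, Finset.sum_mul]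
  rw [Finset.sum_comm, Finset.sum_congr rfl fun x _ => h2 x, Finset.sum_const, Finset.card_univ, nsmul_eq_mul,
    Nat.card_eq_fintype_card, mul_assoc]

include hiso htr ht in
/-- **`⟨Tr (ad (eJ J)), χ⟩` is the multiplicity of `χ` in the permutation character on the `J`-residues.** -/
theorem classInner_eJ (x₀ : C) (J : Set I) (P : Subgroup G) (hP : ∀ g : G, g ∈ P ↔ Δ.δ x₀ (g • x₀) ∈ WJ cs J)
    {χ : G → ℂ} (hχ : IsClassFunction G χ) :
    classInner (Tr (G := G) C (ad Δ (eJ cs t J))) χ = conj ((Nat.card P : ℂ)⁻¹ * ∑ᶠ x : P, χ x) := by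
  classical
  have hG0 : (Nat.card G : ℂ) ≠ 0 := by exact_mod_cast Nat.card_pos.ne'
  have : Nonempty C := ⟨x₀⟩
  have hC0 : (Nat.card C : ℂ) ≠ 0 := by exact_mod_cast Nat.card_pos.ne'
  have hP0 : (Nat.card P : ℂ) ≠ 0 := by exact_mod_cast Nat.card_pos.ne'
  have hp0 : ((pJ cs t J : ℝ) : ℂ) ≠ 0 := H157.HK.pJ_ne cs t J
  have htr1 : ∀ x : C, ∃ g : G, g • x₀ = x := by
    intro x
    obtain ⟨g, hg, -⟩ := htr x₀ x₀ x x (by rw [(Δ.eq_one x₀ x₀).2 rfl, (Δ.eq_one x x).2 rfl])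
    exact ⟨g, hg⟩
  have hsum : ∀ f : G → ℂ, (∑ g : G, if Δ.δ x₀ (g • x₀) ∈ WJ cs J then f g else 0) = ∑ x : P, f x := by
    intro f
    rw [← Finset.sum_filter]
    apply Finset.sum_subtype
    intro g
    rw [Finset.mem_filter, hP]
    simp
  -- the order of `P`
  have hcard : (Nat.card C : ℂ) * ((pJ cs t J : ℝ) : ℂ)⁻¹ * Nat.card P = Nat.card G := by
    have h1 := sum_Tr_eJ (t := t) Δ hiso x₀ htr1 J (f := fun _ => (1 : ℂ)) (fun _ _ => rfl)
    rw [hsum, Finset.sum_const, Finset.card_univ, nsmul_eq_mul, mul_one, ← Nat.card_eq_fintype_card] at h1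
    rw [← h1]
    simp only [mul_one]
    have h2 : ∀ g : G, Tr (G := G) C (ad Δ (eJ cs t J)) g = ∑ x, eJ cs t J (Δ.δ x (g • x)) := by
      intro g
      rw [Tr_apply, trace]
      refine Finset.sum_congr rfl fun x _ => ?_
      rw [diag_apply, mul_Pm_apply, ad_apply]
    simp only [h2]
    rw [Finset.sum_comm]
    -- for every `x` the sum is `|G| / |C|`
    have h3 : ∀ x : C, ∑ g : G, eJ cs t J (Δ.δ x (g • x)) = (Nat.card G : ℂ) / Nat.card C := by
      intro x
      have h4 : ∀ g : G, eJ cs t J (Δ.δ x (g • x)) = ∑ y : C, if g • x = y then eJ cs t J (Δ.δ x y) else 0 := by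
        intro g
        rw [Finset.sum_ite_eq, if_pos (Finset.mem_univ _)]
      rw [Finset.sum_congr rfl fun g _ => h4 g, Finset.sum_comm]
      have h5 : ∀ y : C, (∑ g : G, if g • x = y then eJ cs t J (Δ.δ x y) else 0) =
          (Nat.card G : ℂ) / Nat.card C * eJ cs t J (Δ.δ x y) := by
        intro y
        rw [← Finset.sum_filter, Finset.sum_const, nsmul_eq_mul]
        congr 1
        have h6 : ((Finset.univ.filter fun g : G => g • x = y).card : ℂ) = (cnt G x x x x : ℂ) := by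
          have h7 : cnt G x x y y = cnt G x x x x :=
            cnt_eq Δ htr (x := x) (u := x) (y := y) (u' := y) (x₁ := x) (u₁ := x) (y₁ := x) (u₁' := x)
              (by rw [(Δ.eq_one x x).2 rfl, (Δ.eq_one y y).2 rfl]) rfl
              (by rw [(Δ.eq_one x x).2 rfl, (Δ.eq_one y y).2 rfl])
          rw [← h7]
          unfold cnt
          rw [Nat.card_eq_fintype_card, Fintype.card_subtype]
          congr 2
          ext g
          simp
        have h8 := cnt_mul Δ hiso htr ht (G := G) x x ((Δ.eq_one x x).2 rfl)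
        rw [t.f_one, Complex.ofReal_one, mul_one] at h8
        rw [h6, ← h8]
        field_simp
      rw [Finset.sum_congr rfl fun y _ => h5 y, ← Finset.mul_sum, sum_ad Δ ht, sum_eJ, mul_one]
    rw [Finset.sum_congr rfl fun x _ => h3 x, Finset.sum_const, Finset.card_univ, nsmul_eq_mul,
      ← Nat.card_eq_fintype_card]
    field_simp
  have hc : (fun g => conj (χ g)) ∈ Cl G := fun g h => by
    show conj (χ (h * g * h⁻¹)) = conj (χ g)
    rw [hχ g h]
  rw [classInner_def, sum_Tr_eJ Δ hiso x₀ htr1 J hc, hsum, finsum_eq_sum_of_fintype, map_mul, map_inv₀, map_sum,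
    Complex.conj_natCast, ← mul_assoc]
  congr 1
  rw [← hcard]
  field_simp

end Res

/-! ### The Gram matrix does not depend on the weight -/

section Gram

open Filter Topology

variable {I W : Type*} {M : CoxeterMatrix I} [Group W] (cs : CoxeterSystem M W) [Fintype W] [DecidableEq W]

theorem idem_LmRm (t : Wt cs) (J K : Set I) : Lm cs t (eJ cs t K) * Rm cs t (eJ cs t J) *
    (Lm cs t (eJ cs t K) * Rm cs t (eJ cs t J)) = Lm cs t (eJ cs t K) * Rm cs t (eJ cs t J) := by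
  have h1 : ∀ J : Set I, Lm cs t (eJ cs t J) (eJ cs t J) = eJ cs t J := H157.HK.eJ_mul cs t
  rw [mul_assoc, ← mul_assoc (Rm cs t _), ← Lm_comm_Rm, mul_assoc (Lm cs t _) (Rm cs t _), ← Rm_mul, h1, ← mul_assoc,
    ← Lm_mul, h1]

theorem trace_nat (t : Wt cs) (J K : Set I) : ∃ n : ℕ,
    LinearMap.trace ℂ (W → ℂ) (Lm cs t (eJ cs t K) * Rm cs t (eJ cs t J)) = n :=
  ⟨_, H157.HK.trace_idem (idem_LmRm cs t J K)⟩

theorem gram_const (τ : Wt cs) (J K : Set I) (s s' : ℝ) :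
    LinearMap.trace ℂ (W → ℂ) (Lm cs (τ.smul s) (eJ cs (τ.smul s) K) * Rm cs (τ.smul s) (eJ cs (τ.smul s) J)) =
      LinearMap.trace ℂ (W → ℂ)
        (Lm cs (τ.smul s') (eJ cs (τ.smul s') K) * Rm cs (τ.smul s') (eJ cs (τ.smul s') J)) := by
  have hcont : Continuous fun s : ℝ => LinearMap.trace ℂ (W → ℂ)
      (Lm cs (τ.smul s) (eJ cs (τ.smul s) K) * Rm cs (τ.smul s) (eJ cs (τ.smul s) J)) := by
    simp only [trace_mul]
    exact (continuous_apply (1 : W)).comp
      (continuous_Lm cs τ (continuous_eJ cs τ K) (continuous_CasC cs τ (continuous_eJ cs τ J)))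
  choose n hn using fun s : ℝ => trace_nat cs (τ.smul s) J K
  have hn' : Continuous fun s : ℝ => ((n s : ℕ) : ℂ) := by
    have : (fun s : ℝ => ((n s : ℕ) : ℂ)) = fun s : ℝ => LinearMap.trace ℂ (W → ℂ)
        (Lm cs (τ.smul s) (eJ cs (τ.smul s) K) * Rm cs (τ.smul s) (eJ cs (τ.smul s) J)) :=
      funext fun s => (hn s).symm
    rw [this]
    exact hcont
  have hconst : ∀ s s' : ℝ, n s = n s' := by
    intro s s'
    refine H157.HK.const_of_eventually (f := n) (fun s₀ => ?_) s s'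
    have h1 := hn'.continuousAt (x := s₀)
    have h2 := Metric.tendsto_nhds.1 h1 1 one_pos
    filter_upwards [h2] with s hs
    rw [Complex.dist_eq] at hs
    have h3 : ((n s : ℂ) - (n s₀ : ℂ)) = (((n s : ℤ) - (n s₀ : ℤ) : ℤ) : ℂ) := by push_cast; ring
    rw [h3, Complex.norm_intCast] at hs
    have h4 : |((n s : ℤ) - (n s₀ : ℤ))| < 1 := by exact_mod_cast hs
    have h5 := Int.abs_lt_one_iff.1 h4
    omega
  rw [hn, hn, hconst s s']

end Gram

/-! ### The thin building -/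

section Thin

variable {I W : Type*} {M : CoxeterMatrix I} [Group W] (cs : CoxeterSystem M W)

/-- The thin building. -/
def thin : Bldg cs W where
  δ x y := x⁻¹ * y
  eq_one x y := inv_mul_eq_one
  symm x y := by group
  step x y z i h := by
    left
    rw [inv_mul_eq_iff_eq_mul] at h
    rw [h, mul_assoc]
  step_lt x y z i h _ := by
    rw [inv_mul_eq_iff_eq_mul] at h
    rw [h, mul_assoc]
  exists_step x y i := ⟨y * cs.simple i, by group, by group⟩

theorem thin_δ (x y : W) : (thin cs).δ x y = x⁻¹ * y := rfl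

theorem thin_iso (g x y : W) : (thin cs).δ (g • x) (g • y) = (thin cs).δ x y := by
  rw [thin_δ, thin_δ, smul_eq_mul, smul_eq_mul]
  group

theorem thin_tr (x y x' y' : W) (h : (thin cs).δ x y = (thin cs).δ x' y') : ∃ g : W, g • x = x' ∧ g • y = y' := by
  rw [thin_δ, thin_δ] at h
  refine ⟨x' * x⁻¹, ?_, ?_⟩
  · rw [smul_eq_mul]
    group
  · rw [smul_eq_mul, mul_assoc, h]
    group

theorem thin_isWt [Fintype W] {t : Wt cs} (h₀ : ∀ w, t.m w = 0) : IsWt (thin cs) t := by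
  intro x i
  rw [H157.HK.p_zero cs h₀ i]
  have h1 : Nat.card {y // (thin cs).δ x y = cs.simple i} = 1 := by
    rw [Nat.card_eq_one_iff_unique]
    refine ⟨⟨fun a b => Subtype.ext ?_⟩, ⟨⟨x * cs.simple i, by rw [thin_δ]; group⟩⟩⟩
    have ha := a.2
    have hb := b.2
    rw [thin_δ, inv_mul_eq_iff_eq_mul] at ha hb
    rw [ha, hb]
  rw [h1, Nat.cast_one]

end Thin

end Cfsg.Agent.H116.HeckeU
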