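import Cfsg.Agent.H116.HeckeU.Cas

/-!
# Parabolic virtual characters and the centre of the Hecke algebra (helper116)

`Tr C (ad Δ v)` is the class function `g ↦ tr (v g)` on the group `G` (`v` in the Hecke algebra).

* `classInner_Tr` : `⟨Tr X, χ⟩ = |G|⁻¹ tr (X Ph χ)`;
* `Ph_mul` : `Ph f * Ph χ = (|G| ⟨f, χ⟩ / χ(1)) • Ph χ`;
* `finrank_eq_card_ne` : **the number of the irreducible characters `χ` with `⟨Tr (ad v), χ⟩ ≠ 0` is the rank of the
  multiplication by `Cas v` on the centre of the Hecke algebra**;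
* `gram` : `⟨Tr (ad u), Tr (ad v)⟩ = tr (x ↦ v x u)` on the Hecke algebra, for `v` real and symmetric.
-/

set_option autoImplicit false
set_option linter.unusedSectionVars false

namespace Cfsg.Agent.H116.HeckeU

open CoxeterSystem Cfsg Cfsg.Agent.Tits.Exchange Module Cfsg.Agent.H157.HK Cfsg.Agent.Tits.Core Matrix
  Cfsg.Agent.Characters.Core
open Cfsg.Agent.H116.HeckeC (ad ad_apply ad_transpose ad_injective Pm Pm_apply Pm_mul_apply mul_Pm_apply Pm_mul Pm_one
  Pm_conjTranspose trace_Pm Pm_comm_iff Ph Ph_apply Tr Tr_apply Ph_comm Tr_classFun trace_Ph_mul)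
open Cfsg.Agent.H116.HeckeD (Cl mem_Cl perm adL Pm_ad exists_ad cnt cnt_eq cnt_zero cnt_pos Tr_Ph_irr Ph_eq_zero
  irr_linearIndependent')
open scoped ComplexConjugate

universe u

section Char

variable {G : Type u} [Group G] [Fintype G] {C : Type*} [Fintype C] [DecidableEq C] [MulAction G C]

theorem classInner_Tr (X : Matrix C C ℂ) {χ : G → ℂ} (hχ : IsIrrCharacter G χ) :
    classInner (Tr (G := G) C X) χ = (Nat.card G : ℂ)⁻¹ * trace (X * Ph C χ) := by
  rw [classInner_def]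
  congr 1
  rw [Ph_apply, Finset.mul_sum, trace_sum]
  refine Fintype.sum_equiv (Equiv.inv G) _ _ fun g => ?_
  rw [Equiv.inv_apply, inv_inv, mul_smul_comm, trace_smul, smul_eq_mul, Tr_apply,
    isCharacter_apply_inv (isIrr_isCharacter hχ), mul_comm]

/-- Multiplication by the image of an irreducible character. -/
theorem Ph_mul {f χ : G → ℂ} (hf : f ∈ Cl G) (hχ : IsIrrCharacter G χ) :
    Ph C f * Ph C χ = ((Nat.card G : ℂ) * classInner f χ / χ 1) • Ph C χ := by
  have h1 : Ph C f * Ph C χ = ∑ k : G, (∑ z, f (k * z) * conj (χ z)) • Pm C k⁻¹ := by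
    rw [Ph_apply, Ph_apply, Finset.sum_mul]
    simp only [Finset.mul_sum, smul_mul_assoc, mul_smul_comm, smul_smul, ← Pm_mul, Finset.sum_smul]
    rw [Finset.sum_comm, Finset.sum_comm (s := Finset.univ) (t := Finset.univ)
      (f := fun k z => (f (k * z) * conj (χ z)) • Pm C k⁻¹)]
    refine Fintype.sum_equiv (Equiv.inv G) _ _ fun h => ?_
    refine Fintype.sum_equiv (Equiv.mulLeft h) _ _ fun g => ?_
    rw [Equiv.inv_apply, Equiv.coe_mulLeft, ← isCharacter_apply_inv (isIrr_isCharacter hχ), inv_inv, _root_.mul_inv_rev,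
      hf g h, mul_comm (χ h)]
  rw [h1, Ph_apply, Finset.smul_sum]
  refine Finset.sum_congr rfl fun k _ => ?_
  rw [Classification.TypeZIV.Parity.sum_conv hf hχ k, smul_smul, classInner_def, ← mul_assoc,
    mul_inv_cancel₀ card_ne_zero_complex, one_mul]

/-- The images of the constituents are linearly independent. -/
theorem linearIndependent_Ph :
    LinearIndependent ℂ (fun χ : {χ : IrrCharacter G // classInner (perm G C) (χ : G → ℂ) ≠ 0} =>
      Ph C (χ.1 : G → ℂ)) := by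
  apply LinearIndependent.of_comp (Tr (G := G) C)
  have h1 : (Tr (G := G) C ∘ fun χ : {χ : IrrCharacter G // classInner (perm G C) (χ : G → ℂ) ≠ 0} =>
      Ph C (χ.1 : G → ℂ)) = fun χ =>
      ((Nat.card G : ℂ) * classInner (perm G C) (χ.1 : G → ℂ) / (χ.1 : G → ℂ) 1) • (χ.1 : G → ℂ) := by
    funext χ
    exact Tr_Ph_irr C χ.1.2
  rw [h1]
  have h2 : LinearIndependent ℂ (fun χ : {χ : IrrCharacter G // classInner (perm G C) (χ : G → ℂ) ≠ 0} =>
      (χ.1 : G → ℂ)) := (irr_linearIndependent' (G := G)).comp _ Subtype.val_injective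
  have h3 : ∀ χ : {χ : IrrCharacter G // classInner (perm G C) (χ : G → ℂ) ≠ 0},
      (Nat.card G : ℂ) * classInner (perm G C) (χ.1 : G → ℂ) / (χ.1 : G → ℂ) 1 ≠ 0 := fun χ =>
    div_ne_zero (mul_ne_zero card_ne_zero_complex χ.2) (isIrr_apply_one_ne_zero χ.1.2)
  exact h2.units_smul fun χ => Units.mk0 _ (h3 χ)

/-- The rank of the multiplication by `Ph f` on the images of the class functions. -/
theorem finrank_mulLeft {f : G → ℂ} (hf : f ∈ Cl G)
    (hf0 : ∀ χ : IrrCharacter G, classInner (perm G C) (χ : G → ℂ) = 0 → classInner f (χ : G → ℂ) = 0) :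
    finrank ℂ (((Cl G).map (Ph C)).map (LinearMap.mulLeft ℂ (Ph C f))) =
      Nat.card {χ : IrrCharacter G // classInner f (χ : G → ℂ) ≠ 0} := by
  classical
  have hfin : Finite (IrrCharacter G) := finite_irr
  let _ : Fintype (IrrCharacter G) := Fintype.ofFinite _
  let b : {χ : IrrCharacter G // classInner f (χ : G → ℂ) ≠ 0} → Matrix C C ℂ := fun χ => Ph C (χ.1 : G → ℂ)
  have hb : LinearIndependent ℂ b := by
    have h1 := (linearIndependent_Ph (G := G) (C := C)).comp
      (fun χ : {χ : IrrCharacter G // classInner f (χ : G → ℂ) ≠ 0} =>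
        (⟨χ.1, fun h => χ.2 (hf0 χ.1 h)⟩ : {χ : IrrCharacter G // classInner (perm G C) (χ : G → ℂ) ≠ 0}))
      (fun a b h => Subtype.ext (congrArg (fun z => z.1) h))
    exact h1
  have hspan : ((Cl G).map (Ph C)).map (LinearMap.mulLeft ℂ (Ph C f)) = Submodule.span ℂ (Set.range b) := by
    apply le_antisymm
    · rintro _ ⟨_, ⟨f', hf', rfl⟩, rfl⟩
      rw [classFunction_eq_sum (mem_Cl.1 hf'), map_sum, map_sum]
      refine Submodule.sum_mem _ fun χ _ => ?_
      rw [map_smul, map_smul, LinearMap.mulLeft_apply, Ph_mul hf χ.2]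
      apply Submodule.smul_mem
      by_cases h : classInner f (χ : G → ℂ) = 0
      · rw [h, mul_zero, zero_div, zero_smul]
        exact Submodule.zero_mem _
      · exact Submodule.smul_mem _ _ (Submodule.subset_span ⟨⟨χ, h⟩, rfl⟩)
    · rw [Submodule.span_le]
      rintro _ ⟨χ, rfl⟩
      have h3 : (Nat.card G : ℂ) * classInner f (χ.1 : G → ℂ) / (χ.1 : G → ℂ) 1 ≠ 0 :=
        div_ne_zero (mul_ne_zero card_ne_zero_complex χ.2) (isIrr_apply_one_ne_zero χ.1.2)
      refine ⟨((Nat.card G : ℂ) * classInner f (χ.1 : G → ℂ) / (χ.1 : G → ℂ) 1)⁻¹ • Ph C (χ.1 : G → ℂ),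
        Submodule.smul_mem _ _ ⟨χ.1, isIrr_isClassFunction χ.1.2, rfl⟩, ?_⟩
      rw [map_smul, LinearMap.mulLeft_apply, Ph_mul hf χ.1.2, smul_smul, inv_mul_cancel₀ h3, one_smul]
  rw [hspan, finrank_span_eq_card hb, Nat.card_eq_fintype_card]

end Char

section Main

variable {I W : Type*} {M : CoxeterMatrix I} [Group W] {cs : CoxeterSystem M W} {C : Type*} (Δ : Bldg cs C)
  [Fintype C] [DecidableEq C] {G : Type u} [Group G] [Fintype G] [MulAction G C]
  (hiso : ∀ (g : G) (x y : C), Δ.δ (g • x) (g • y) = Δ.δ x y)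
  (htr : ∀ x y x' y' : C, Δ.δ x y = Δ.δ x' y' → ∃ g : G, g • x = x' ∧ g • y = y')
  [DecidableEq W] [Fintype W] {t : Wt cs} (ht : IsWt Δ t)

include hiso

theorem Tr_mem (v : W → ℂ) : Tr (G := G) C (ad Δ v) ∈ Cl G := fun g h => Tr_classFun (Pm_ad Δ hiso v) g h

omit hiso in
/-- A character which is not a constituent of the permutation character does not occur in `Tr X`. -/
theorem Tr_eq_zero (X : Matrix C C ℂ) {χ : G → ℂ} (hχ : IsIrrCharacter G χ)
    (h : classInner (perm G C) χ = 0) : classInner (Tr (G := G) C X) χ = 0 := by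
  rw [classInner_Tr X hχ, Ph_eq_zero C hχ h, mul_zero, trace_zero, mul_zero]

include htr ht

/-- **The number of the irreducible characters occurring in `Tr (ad v)`** is the rank of the multiplication by `Cas v`
on the centre of the Hecke algebra. -/
theorem finrank_eq_card_ne [Nonempty C] (v : W → ℂ) :
    finrank ℂ (LinearMap.range (Lm cs t (Cas cs t v) * Cas cs t)) =
      Nat.card {χ : IrrCharacter G // classInner (Tr (G := G) C (ad Δ v)) (χ : G → ℂ) ≠ 0} := by
  have hG0 : (Nat.card G : ℂ) ≠ 0 := by exact_mod_cast Nat.card_pos.ne'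
  have hC0 : (Nat.card C : ℂ) ≠ 0 := by exact_mod_cast Nat.card_pos.ne'
  have hGC : (Nat.card G : ℂ) / Nat.card C ≠ 0 := div_ne_zero hG0 hC0
  rw [← finrank_mulLeft (C := C) (Tr_mem Δ hiso v) fun χ h => Tr_eq_zero (ad Δ v) χ.2 h, map_eq Δ hiso htr ht,
    casimir' Δ hiso htr ht]
  have h1 : LinearMap.range (Cas cs t) = Z cs t :=
    Submodule.eq_of_le_of_finrank_eq (range_Cas_le cs t) (finrank_range_Cas cs t)
  have h2 : LinearMap.range (Lm cs t (Cas cs t v) * Cas cs t) = (Z cs t).map (Lm cs t (Cas cs t v)) := by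
    rw [← h1]
    exact LinearMap.range_comp _ _
  have h3 : ((Z cs t).map (adL Δ)).map (LinearMap.mulLeft ℂ (((Nat.card G : ℂ) / Nat.card C) • ad Δ (Cas cs t v))) =
      ((Z cs t).map (Lm cs t (Cas cs t v))).map (adL Δ) := by
    apply le_antisymm
    · rintro _ ⟨_, ⟨z, hz, rfl⟩, rfl⟩
      refine ⟨((Nat.card G : ℂ) / Nat.card C) • Lm cs t (Cas cs t v) z,
        Submodule.smul_mem _ _ ⟨z, hz, rfl⟩, ?_⟩
      rw [map_smul, LinearMap.mulLeft_apply, smul_mul_assoc]
      congr 1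
      exact ad_Lm Δ ht _ _
    · rintro _ ⟨_, ⟨z, hz, rfl⟩, rfl⟩
      refine ⟨adL Δ (((Nat.card G : ℂ) / Nat.card C)⁻¹ • z), ⟨_, Submodule.smul_mem _ _ hz, rfl⟩, ?_⟩
      rw [map_smul, map_smul, LinearMap.mulLeft_apply, smul_mul_assoc, smul_smul, inv_mul_cancel₀ hGC, one_smul]
      exact (ad_Lm Δ ht _ _).symm
  have h4 : Function.Injective (adL Δ) := ad_injective Δ
  rw [h2, h3]
  exact (Submodule.equivMapOfInjective (adL Δ) h4 _).finrank_eq

/-- **The Gram matrix**: `⟨Tr (ad u), Tr (ad v)⟩ = tr (x ↦ v x u)`. -/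
theorem gram [Nonempty C] (u v : W → ℂ) (hv : ∀ w, conj (v w⁻¹) = v w) :
    classInner (Tr (G := G) C (ad Δ u)) (Tr (G := G) C (ad Δ v)) =
      LinearMap.trace ℂ (W → ℂ) (Lm cs t v * Rm cs t u) := by
  have hG0 : (Nat.card G : ℂ) ≠ 0 := by exact_mod_cast Nat.card_pos.ne'
  have hC0 : (Nat.card C : ℂ) ≠ 0 := by exact_mod_cast Nat.card_pos.ne'
  have h1 : (ad Δ v)ᴴ = ad Δ v := by
    ext x y
    rw [conjTranspose_apply, ad_apply, ad_apply, Δ.symm x y, ← hv (Δ.δ x y)]
    rfl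
  have h2 : ∀ w : W → ℂ, trace (ad Δ w) = Nat.card C * w 1 := by
    intro w
    unfold trace
    simp only [diag_apply, ad_apply, (Δ.eq_one _ _).2 rfl]
    rw [Finset.sum_const, Finset.card_univ, nsmul_eq_mul, Nat.card_eq_fintype_card]
  have h3 : Lm cs t (Cas cs t u) v = Lm cs t v (Cas cs t u) :=
    ((mem_Z_iff cs).1 (range_Cas_le cs t ⟨u, rfl⟩) v).symm
  rw [classInner_def, ← trace_Ph_mul (C := C), casimir' Δ hiso htr ht, h1, smul_mul_assoc, trace_smul, ← ad_Lm Δ ht, h2,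
    trace_mul, smul_eq_mul, h3]
  field_simp

end Main

end Cfsg.Agent.H116.HeckeU
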